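import Groth.Agent.Agf.H612.GalRed
import Groth.Agent.Sga3B.RG.PbBorel
import Groth.Agent.Sga3B.RG.ConjTori
import Groth.Agent.Redsub.H674.UnipPts
import Groth.Agent.Sga3.H793.UnipPart2

/-!
# The unipotent radical of a connected solvable group over a perfect field, in Hopf form

`k` perfect, `K` an algebraically closed algebraic extension, `C` a finitely generated commutative
Hopf algebra over `k` such that `K ⊗ C` is a domain and its group of `K`-points is solvable.

* `isUnipotent_of_baseChange`: unipotence descends along `k → K`;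
* `exists_unipQuot`: the closed normal subgroup of unipotent points is defined over `k` by a
  quotient Hopf algebra `π : C → H`, `H` unipotent and geometrically integral, and every maximal
  torus of `K`-points is a complement.
-/

set_option autoImplicit false

universe u v w

open WithConv TensorProduct Coalgebra
open Groth.Agent.Sga3B.RG
open Groth.Agent.Agf.H612.GalSub Groth.Agent.Agf.H612.GalPts Groth.Agent.Agf.H612.GalQuot
  Groth.Agent.Agf.H612.GalRed

namespace Groth.Agent.Sga3.H530.Ru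

section Descent

variable {k : Type u} {H : Type v} [Field k] [CommRing H] [Bialgebra k H]
variable (K : Type v) [Field K] [Algebra k K]

/-- **Unipotence descends along an extension of the base field.** -/
theorem isUnipotent_of_baseChange (h : HopfRep.IsUnipotent K (K ⊗[k] H)) :
    HopfRep.IsUnipotent k H := by
  classical
  rw [H793.UnipPart2.isUnipotent_iff_soc] at h ⊢
  intro a
  obtain ⟨n, hn⟩ := h (1 ⊗ₜ a)
  refine ⟨n, ?_⟩
  let e := Module.Basis.ofVectorSpace k K
  have h1 : e.repr (1 : K) ≠ 0 := by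
    intro h0
    exact one_ne_zero (e.repr.map_eq_zero_iff.1 h0)
  obtain ⟨i, hi⟩ := Finsupp.ne_iff.1 h1
  have h2 := H793.UnipPart2.repr_mem_soc K e n _ hn i
  rw [TensorProduct.equivFinsuppOfBasisLeft_apply_tmul_apply] at h2
  exact (Submodule.smul_mem_iff _ hi).1 h2

end Descent

section Quot

variable {k : Type u} [Field k] {C : Type u} [CommRing C] [HopfAlgebra k C]
variable (K : Type u) [Field K] [Algebra k K]

/-- The kernel of the base change of a quotient map. -/
lemma ker_bcHom (J : Ideal C) [J.IsHopfIdeal k] :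
    RingHom.ker (bcHom K (Bialgebra.Quotient.mkBialgHom (R := k) J)) =
      J.map (Algebra.TensorProduct.includeRight : C →ₐ[k] K ⊗[k] C) := by
  have h1 := Algebra.TensorProduct.lTensor_ker (A := K) (Ideal.Quotient.mkₐ k J)
    (Ideal.Quotient.mkₐ_surjective k J)
  have h2 : RingHom.ker (Ideal.Quotient.mkₐ k J) = J := Ideal.mk_ker
  rw [h2] at h1
  rw [← h1]
  rfl

lemma bcHom_surjective {H : Type u} [CommRing H] [HopfAlgebra k H] (φ : C →ₐc[k] H)
    (hφ : Function.Surjective φ) : Function.Surjective (bcHom K φ) := by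
  intro y
  induction y using TensorProduct.induction_on with
  | zero => exact ⟨0, map_zero _⟩
  | tmul c h =>
    obtain ⟨b, rfl⟩ := hφ h
    exact ⟨c ⊗ₜ b, rfl⟩
  | add x y hx hy =>
    obtain ⟨a, rfl⟩ := hx
    obtain ⟨b, rfl⟩ := hy
    exact ⟨a + b, map_add _ _ _⟩

end Quot

/-- **The unipotent radical over a perfect field of a connected solvable group** (Hopf form). -/
theorem exists_unipQuot (k K : Type u) [Field k] [Field K] [Algebra k K] [PerfectField k]
    [IsAlgClosed K] [Algebra.IsAlgebraic k K] (C : Type u) [CommRing C] [HopfAlgebra k C]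
    [Algebra.FiniteType k C] [IsDomain (K ⊗[k] C)] (hs : Group.IsSolvable (Pt K (K ⊗[k] C))) :
    ∃ (H : Type u) (_ : CommRing H) (_ : HopfAlgebra k H) (π : C →ₐc[k] H),
      Function.Surjective π ∧ Algebra.FiniteType k H ∧ HopfRep.IsUnipotent k H ∧
      IsDomain (K ⊗[k] H) ∧
      (∀ u : Pt K (K ⊗[k] C), (∀ c ∈ RingHom.ker π, u (1 ⊗ₜ c) = 0) ↔ IsUnip u) ∧
      SGA3.IsNormalHopfIdeal k C (RingHom.ker π) ∧
      ∀ M : Subgroup (Pt K (K ⊗[k] C)), IsMaxTorusSub M → ∀ x, ∃ u m, m ∈ M ∧ x = u * m ∧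
        ∀ c ∈ RingHom.ker π, u (1 ⊗ₜ c) = 0 := by
  have hfix : ∀ c : K, (∀ σ : K ≃ₐ[k] K, σ c = c) → c ∈ (algebraMap k K).range :=
    mem_range_of_fixed k K
  have hT := PbBorel.isTrig_of_isSolvable hs
  set G : Subgroup (Pt K (K ⊗[k] C)) := Trig.Gu K (K ⊗[k] C) with hG
  have hunip : ∀ g, g ∈ G ↔ IsUnip g := fun g => (Trig.isUnip_iff hT g).symm
  have hst : ∀ (σ : K ≃ₐ[k] K), ∀ g ∈ (G : Set (Pt K (K ⊗[k] C))), gal σ g ∈
      (G : Set (Pt K (K ⊗[k] C))) := by
    intro σ g hg
    exact (hunip _).2 (isUnip_gal σ ((hunip g).1 hg))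
  have hcl : IsCl (G : Set (Pt K (K ⊗[k] C))) := Trig.isCl_Gu
  have hconn : IsConn (G : Set (Pt K (K ⊗[k] C))) := TrigTorus.isConn_Gu hT
  have hnorm : G.Normal := Trig.normal_Gu
  have hJ := map_comap_vanIdeal hfix (S := (G : Set (Pt K (K ⊗[k] C)))) hst
  set J := (vanIdeal (G : Set (Pt K (K ⊗[k] C)))).comap
    (Algebra.TensorProduct.includeRight : C →ₐ[k] K ⊗[k] C) with hJdef
  have h1 : (J.map (Algebra.TensorProduct.includeRight : C →ₐ[k] K ⊗[k] C)).IsHopfIdeal K := by
    rw [hJ]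
    infer_instance
  have h2 : SGA3.IsNormalHopfIdeal K (K ⊗[k] C)
      (J.map (Algebra.TensorProduct.includeRight : C →ₐ[k] K ⊗[k] C)) := by
    rw [hJ]
    exact Groth.Agent.Agf.H593.QuotPt.isNormalHopfIdeal_vanIdeal hcl hnorm
  have h3 : J.IsHopfIdeal k := isHopfIdeal_of_map J h1
  have h4 := isNormalHopfIdeal_of_map J h2
  let π : C →ₐc[k] C ⧸ J := Bialgebra.Quotient.mkBialgHom (R := k) J
  have hπ : Function.Surjective π := Ideal.Quotient.mk_surjective
  have hkerπ : RingHom.ker π = J := by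
    ext c
    rw [RingHom.mem_ker]
    exact Ideal.Quotient.eq_zero_iff_mem
  have hkerK : RingHom.ker (bcHom K π) = vanIdeal (G : Set (Pt K (K ⊗[k] C))) := by
    rw [← hJ]
    exact ker_bcHom K J
  have hsurjK := bcHom_surjective K π hπ
  have hdom : IsDomain (K ⊗[k] (C ⧸ J)) := by
    have hp : (RingHom.ker (bcHom K π : K ⊗[k] C →+* K ⊗[k] (C ⧸ J))).IsPrime := by
      have h5 : (vanIdeal (G : Set (Pt K (K ⊗[k] C)))).IsPrime := hconn
      rw [← hkerK] at h5
      exact h5
    have h6 : IsDomain (K ⊗[k] C ⧸ RingHom.ker (bcHom K π : K ⊗[k] C →+* K ⊗[k] (C ⧸ J))) :=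
      Ideal.Quotient.isDomain _
    exact (RingHom.quotientKerEquivOfSurjective
      (f := (bcHom K π : K ⊗[k] C →+* K ⊗[k] (C ⧸ J))) hsurjK).symm.toMulEquiv.isDomain _
  have hmem : ∀ u : Pt K (K ⊗[k] C), (∀ c ∈ RingHom.ker π, u (1 ⊗ₜ c) = 0) ↔ u ∈ G := by
    intro u
    rw [hkerπ]
    constructor
    · intro hu
      apply hcl
      intro a ha
      have h5 : J.map (Algebra.TensorProduct.includeRight : C →ₐ[k] K ⊗[k] C) ≤
          RingHom.ker u.ofConv := by
        rw [Ideal.map_le_iff_le_comap]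
        intro c hc
        exact hu c hc
      rw [hJ] at h5
      exact h5 ha
    · intro hu c hc
      exact hc u hu
  refine ⟨C ⧸ J, inferInstance, inferInstance, π, hπ, inferInstance, ?_, hdom, ?_, ?_, ?_⟩
  · apply isUnipotent_of_baseChange K
    apply Groth.Agent.Redsub.H674.UnipPts.isUnipotent_of_forall_isUnip
    intro g
    refine isUnip_of_map (φ := bcHom K π) hsurjK ?_
    rw [← hunip, ← hmem]
    intro c hc
    change g.ofConv (bcHom K π (1 ⊗ₜ c)) = 0
    rw [bcHom_tmul, (RingHom.mem_ker).1 hc, tmul_zero, map_zero]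
  · intro u
    rw [hmem, hunip]
  · rw [hkerπ]
    exact h4
  · intro M hM x
    obtain ⟨T, hTmax, -, hdec⟩ := TrigTorus.exists_torus hT
    obtain ⟨g, rfl⟩ := ConjTori.exists_conj_of_isMaxTorusSub hTmax hM
    obtain ⟨s, hs', u, hu, hsu⟩ := hdec (g⁻¹ * x * g)
    refine ⟨(g * s) * u * (g * s)⁻¹, g * s * g⁻¹, ⟨s, hs', rfl⟩, ?_, ?_⟩
    · have h5 : x = g * (g⁻¹ * x * g) * g⁻¹ := by group
      rw [h5, hsu]
      group
    · rw [hmem]
      exact hnorm.conj_mem u hu (g * s)

/-- The short form of `exists_unipQuot` (subtask (G2) of S4134). -/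
theorem ru (k K : Type u) [Field k] [Field K] [Algebra k K] [PerfectField k]
    [IsAlgClosed K] [Algebra.IsAlgebraic k K] (C : Type u) [CommRing C] [HopfAlgebra k C]
    [Algebra.FiniteType k C] [IsDomain (K ⊗[k] C)] (hs : Group.IsSolvable (Pt K (K ⊗[k] C))) :
    ∃ (H : Type u) (_ : CommRing H) (_ : HopfAlgebra k H) (π : C →ₐc[k] H),
      Function.Surjective π ∧ Algebra.FiniteType k H ∧ HopfRep.IsUnipotent k H ∧
      IsDomain (K ⊗[k] H) ∧
      ∀ M : Subgroup (Pt K (K ⊗[k] C)), IsMaxTorusSub M → ∀ x, ∃ u m, m ∈ M ∧ x = u * m ∧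
        ∀ c ∈ RingHom.ker π, u (1 ⊗ₜ c) = 0 := by
  obtain ⟨H, i1, i2, π, h1, h2, h3, h4, -, -, h5⟩ := exists_unipQuot k K C hs
  exact ⟨H, i1, i2, π, h1, h2, h3, h4, h5⟩

end Groth.Agent.Sga3.H530.Ru
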